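import Groth.Agent.H21Diag.DSMap
import Groth.Prelude.Def_NonAbH2
import Mathlib.AlgebraicGeometry.Sites.Fpqc
import Mathlib.RingTheory.FiniteType

/-!
# Exact sequences of diagonalisable groups
-/

set_option backward.isDefEq.respectTransparency false
set_option backward.isDefEq.respectTransparency.types false

open CategoryTheory MonoidalCategory CartesianMonoidalCategory MonObj GrpObj AlgebraicGeometry
open CategoryTheory.Limits

universe u

namespace Groth.Agent.H18Torsor.DiagExact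

open Groth.Agent.H21Diag

variable {S : Scheme.{u}} {M N Q : Type} [AddCommGroup M] [AddCommGroup N] [AddCommGroup Q]

/-- The character attached to a point of a diagonalisable group. -/
noncomputable def chr {T : Over S} (x : T ⟶ Red.DS S M) : Multiplicative M →* Γ(T.left, ⊤) :=
  (((x.left ≫ pullback.fst _ _).appTop).hom.toMonoidHom.comp
    (Scheme.ΓSpecIso (CommRingCat.of (MonoidAlgebra (ULift.{u} ℤ) (Multiplicative M)))).inv.hom.toMonoidHom).comp
    (MonoidAlgebra.of (ULift.{u} ℤ) (Multiplicative M))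

theorem chr_ext {T : Over S} {x y : T ⟶ Red.DS S M} (h : chr x = chr y) : x = y := by
  haveI : IsAffine (Red.diag (ULift.{u} ℤ) M).left :=
    inferInstanceAs (IsAffine (Spec (CommRingCat.of (MonoidAlgebra (ULift.{u} ℤ) (Multiplicative M)))))
  refine bc_ext (ext_of_isAffine ?_)
  rw [← cancel_epi (Scheme.ΓSpecIso (CommRingCat.of (MonoidAlgebra (ULift.{u} ℤ) (Multiplicative M)))).inv]
  exact CommRingCat.hom_ext (charRingHom_ext fun m => DFunLike.congr_fun h m)

theorem specMap_appTop {A B : CommRingCat.{u}} (f : A ⟶ B) (r : A) :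
    (Spec.map f).appTop ((Scheme.ΓSpecIso A).inv r) = (Scheme.ΓSpecIso B).inv (f r) :=
  (ConcreteCategory.congr_hom (Scheme.ΓSpecIso_inv_naturality f) r).symm

theorem chr_surjective {T : Over S} (χ : Multiplicative M →* Γ(T.left, ⊤)) :
    ∃ x : T ⟶ Red.DS S M, chr x = χ := by
  let k : T.left ⟶ Spec (CommRingCat.of (MonoidAlgebra (ULift.{u} ℤ) (Multiplicative M))) :=
    T.left.toSpecΓ ≫ Spec.map (CommRingCat.ofHom (charRingHom χ))
  refine ⟨Over.homMk (pullback.lift k T.hom (specULiftZIsTerminal.hom_ext _ _))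
    (pullback.lift_snd _ _ _), ?_⟩
  refine MonoidHom.ext fun m => ?_
  change (pullback.lift k T.hom _ ≫ pullback.fst _ _).appTop
    ((Scheme.ΓSpecIso _).inv (MonoidAlgebra.single m 1)) = χ m
  rw [pullback.lift_fst]
  change (k.appTop) _ = _
  rw [Scheme.Hom.comp_appTop, CommRingCat.comp_apply, specMap_appTop, Scheme.toSpecΓ_appTop,
    ← CommRingCat.comp_apply, Iso.inv_hom_id]
  simp

theorem chr_comp_DSmap {T : Over S} (x : T ⟶ Red.DS S N) (φ : M →+ N) :
    chr (x ≫ Red.DSmap S φ) = (chr x).comp (AddMonoidHom.toMultiplicative φ) := by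
  refine MonoidHom.ext fun m => ?_
  have e : (x ≫ Red.DSmap S φ).left ≫ pullback.fst _ _ =
      (x.left ≫ pullback.fst _ _) ≫ Spec.map (CommRingCat.ofHom
        (MonoidAlgebra.mapDomainAlgHom (ULift.{u} ℤ) (ULift.{u} ℤ)
          (AddMonoidHom.toMultiplicative φ)).toRingHom) := by
    rw [Over.comp_left, Category.assoc, Category.assoc]
    congr 1
    exact pullback.lift_fst _ _ _
  change ((x ≫ Red.DSmap S φ).left ≫ pullback.fst _ _).appTop
    ((Scheme.ΓSpecIso _).inv (MonoidAlgebra.single m 1)) = _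
  rw [e, Scheme.Hom.comp_appTop]
  refine (CommRingCat.comp_apply _ _ _).trans ?_
  refine (congrArg (x.left ≫ pullback.fst _ _).appTop (specMap_appTop (A := CommRingCat.of (MonoidAlgebra (ULift.{u} ℤ) (Multiplicative M))) _ (MonoidAlgebra.single m 1 : MonoidAlgebra (ULift.{u} ℤ) (Multiplicative M)))).trans ?_
  refine congrArg (fun z => (x.left ≫ pullback.fst _ _).appTop
    ((Scheme.ΓSpecIso _).inv z)) ?_
  simp

theorem chr_one (T : Over S) : chr (1 : T ⟶ Red.DS S M) = 1 := by
  have h : (1 : T ⟶ Red.DS S M) = (1 : T ⟶ Red.DS S PUnit.{1}) ≫ Red.DSmap S (0 : M →+ PUnit.{1}) :=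
    (MonObj.one_comp _).symm
  rw [h, chr_comp_DSmap]
  refine MonoidHom.ext fun m => ?_
  change chr (1 : T ⟶ Red.DS S PUnit.{1}) _ = 1
  exact (congrArg _ (Subsingleton.elim _ 1)).trans (map_one _)

theorem mono_DSmap (φ : N →+ Q) (hφ : Function.Surjective φ) : Mono (Red.DSmap S φ) := by
  refine ⟨fun {T} x y h => chr_ext (MonoidHom.ext fun q => ?_)⟩
  obtain ⟨n, rfl⟩ := hφ q.toAdd
  have := congrArg (fun z => chr z (Multiplicative.ofAdd n)) h
  simp only [chr_comp_DSmap] at this
  exact this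

theorem exists_lift_kernel (φ : M →+ N) (ψ : N →+ Q) (hψ : Function.Surjective ψ)
    (hex : ∀ n, ψ n = 0 → ∃ m, φ m = n) {T : Over S} (x : T ⟶ Red.DS S N)
    (hx : x ≫ Red.DSmap S φ = 1) : ∃ z, z ≫ Red.DSmap S ψ = x := by
  have hm : ∀ m, chr x (Multiplicative.ofAdd (φ m)) = 1 := fun m => by
    have := congrArg (fun z => chr z (Multiplicative.ofAdd m)) hx
    rw [chr_comp_DSmap, chr_one] at this
    exact this
  have key : ∀ n n', ψ n = ψ n' →
      chr x (Multiplicative.ofAdd n) = chr x (Multiplicative.ofAdd n') := fun n n' h => by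
    obtain ⟨m, hm'⟩ := hex (n - n') (by rw [map_sub, h, sub_self])
    rw [show n = φ m + n' by rw [hm', sub_add_cancel], ofAdd_add, map_mul, hm, _root_.one_mul]
  let χ : Multiplicative Q →* Γ(T.left, ⊤) :=
    { toFun := fun q => chr x (Multiplicative.ofAdd (hψ q.toAdd).choose)
      map_one' := (key _ 0 ((hψ _).choose_spec.trans (map_zero ψ).symm)).trans (map_one _)
      map_mul' := fun q q' => by
        rw [← map_mul, ← ofAdd_add]
        exact key _ _ ((hψ _).choose_spec.trans (by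
          rw [map_add, (hψ _).choose_spec, (hψ _).choose_spec]; rfl)) }
  obtain ⟨z, hz⟩ := chr_surjective χ
  refine ⟨z, chr_ext (MonoidHom.ext fun n => ?_)⟩
  rw [chr_comp_DSmap, hz]
  exact key _ n.toAdd (hψ _).choose_spec

theorem locallyOfFinitePresentation_DSmap [AddGroup.FG M] [AddGroup.FG N] (φ : M →+ N) :
    LocallyOfFinitePresentation (Red.DSmap S φ).left := by
  refine MorphismProperty.baseChange_map (P := @LocallyOfFinitePresentation) _ _ ?_
  refine (HasRingHomProperty.Spec_iff (P := @LocallyOfFinitePresentation)).mpr ?_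
  haveI : IsNoetherianRing (ULift.{u} ℤ) := isNoetherianRing_of_ringEquiv ℤ ULift.ringEquiv.symm
  haveI : Monoid.FG (Multiplicative M) := Monoid.fg_iff_add_fg.mpr inferInstance
  haveI : Monoid.FG (Multiplicative N) := Monoid.fg_iff_add_fg.mpr inferInstance
  haveI : IsNoetherianRing (MonoidAlgebra (ULift.{u} ℤ) (Multiplicative M)) :=
    Algebra.FiniteType.isNoetherianRing (ULift.{u} ℤ) _
  refine RingHom.FinitePresentation.of_finiteType.mp ?_
  refine RingHom.FiniteType.of_comp_finiteType (f := algebraMap (ULift.{u} ℤ) _) ?_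
  refine (congrArg RingHom.FiniteType (AlgHom.comp_algebraMap (MonoidAlgebra.mapDomainAlgHom
    (ULift.{u} ℤ) (ULift.{u} ℤ) (AddMonoidHom.toMultiplicative φ)))).mpr ?_
  exact RingHom.finiteType_algebraMap.mpr inferInstance

/-- Exactness from the kernel property on points. -/
theorem isExactSeq_of_kernel {G' G G'' : Over S} [GrpObj G'] [GrpObj G] [GrpObj G'']
    (K : Precoverage Scheme.{u}) (u : G' ⟶ G) (v : G ⟶ G'') [IsMonHom u] [IsMonHom v] [Mono u]
    (huv : u ≫ v = 1) (hker : ∀ {T : Over S} (x : T ⟶ G), x ≫ v = 1 → ∃ z, z ≫ u = x)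
    (hK : Presieve.singleton v.left ∈ K _) : NonAbH1.IsExactSeq K u v := by
  have hmul : ∀ {T : Over S} (p : T ⟶ G ⊗ G'),
      p ≫ ((G ◁ u) ≫ μ[G]) = (p ≫ fst _ _) * ((p ≫ snd _ _) ≫ u) := fun {T} p => by
    rw [Hom.mul_def, ← lift_whiskerLeft, ← comp_lift, lift_fst_snd, Category.comp_id, Category.assoc]
  have hw : fst G G' ≫ v = ((G ◁ u) ≫ μ[G]) ≫ v := by
    rw [← Category.id_comp ((G ◁ u) ≫ μ[G]), hmul, MonObj.mul_comp, Category.id_comp,
      Category.id_comp, Category.assoc, huv, MonObj.comp_one, _root_.mul_one]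
  refine ⟨inferInstance, inferInstance, huv, IsPullback.of_isLimit' ⟨hw⟩ (PullbackCone.IsLimit.mk hw
    (fun s => lift s.fst (hker (s.fst⁻¹ * s.snd)
      (by rw [MonObj.mul_comp, GrpObj.inv_comp, s.condition, inv_mul_cancel])).choose)
    (fun s => lift_fst _ _) (fun s => ?_) (fun s m h₁ h₂ => ?_)),
    ⟨_, hK, fun _ f hf => by cases hf; exact ⟨𝟙 _, Category.id_comp _⟩⟩⟩
  · rw [hmul, lift_fst, lift_snd]
    generalize_proofs hz
    rw [hz.choose_spec, mul_inv_cancel_left]
  · refine CartesianMonoidalCategory.hom_ext _ _ (by rw [lift_fst, h₁]) ?_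
    rw [lift_snd, ← cancel_mono u]
    generalize_proofs hz
    rw [hz.choose_spec, ← h₂, hmul, h₁, inv_mul_cancel_left]

theorem isExactSeq (K : Precoverage Scheme.{u}) (φ : M →+ N) (ψ : N →+ Q)
    (hψ : Function.Surjective ψ) (h0 : ∀ m, ψ (φ m) = 0) (hex : ∀ n, ψ n = 0 → ∃ m, φ m = n)
    (hK : Presieve.singleton (Red.DSmap S φ).left ∈ K _) :
    NonAbH1.IsExactSeq K (Red.DSmap S ψ) (Red.DSmap S φ) := by
  haveI := mono_DSmap (S := S) ψ hψ
  have huv : Red.DSmap S ψ ≫ Red.DSmap S φ = 1 := by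
    refine chr_ext (MonoidHom.ext fun m => ?_)
    rw [chr_comp_DSmap, ← Category.id_comp (Red.DSmap S ψ), chr_comp_DSmap, chr_one]
    change chr (𝟙 _) (Multiplicative.ofAdd (ψ (φ m.toAdd))) = 1
    rw [h0, ofAdd_zero, map_one]
  exact isExactSeq_of_kernel K _ _ huv
    (fun x hx => exists_lift_kernel φ ψ hψ hex x hx) hK

end Groth.Agent.H18Torsor.DiagExact
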