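import Groth.Prelude.Def_NonAbH2
import Groth.Agent.H18Descent.Basic

/-! Scheme torsors: trivialization by sections, fpqc descent of properties of the structure map. -/

set_option autoImplicit false
set_option linter.style.haveILetI false
universe u

open CategoryTheory MonoidalCategory CartesianMonoidalCategory AlgebraicGeometry Limits MorphismProperty

namespace H18Torsor

variable {S : Scheme.{u}} {G X : Over S} [GrpObj G] (a : AlgGrp.Action G X)

/-- A section of a pseudo-torsor over `T` trivializes it over `T`. -/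
noncomputable def trivIso (h : NonAbH1.IsPseudoTorsorSch a) {T : Over S} (t : T ⟶ X) : G ⊗ T ≅ X ⊗ T :=
  haveI : IsIso (lift a.act (snd G X)) := h
  { hom := lift (lift (fst G T) (snd G T ≫ t) ≫ a.act) (snd G T)
    inv := lift (lift (fst X T) (snd X T ≫ t) ≫ inv (lift a.act (snd G X)) ≫ fst G X) (snd X T)
    hom_inv_id := by
      apply CartesianMonoidalCategory.hom_ext
      · simp only [Category.assoc, lift_fst, Category.id_comp]
        have e : lift (lift (fst G T) (snd G T ≫ t) ≫ a.act) (snd G T) ≫ lift (fst X T) (snd X T ≫ t) =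
            lift (fst G T) (snd G T ≫ t) ≫ lift a.act (snd G X) := by
          apply CartesianMonoidalCategory.hom_ext <;> simp
        rw [← Category.assoc, e, Category.assoc, IsIso.hom_inv_id_assoc, lift_fst]
      · simp
    inv_hom_id := by
      apply CartesianMonoidalCategory.hom_ext
      · simp only [Category.assoc, lift_fst, Category.id_comp]
        have e : lift (lift (fst X T) (snd X T ≫ t) ≫ inv (lift a.act (snd G X)) ≫ fst G X) (snd X T) ≫
            lift (fst G T) (snd G T ≫ t) = lift (fst X T) (snd X T ≫ t) ≫ inv (lift a.act (snd G X)) := by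
          apply CartesianMonoidalCategory.hom_ext
          · simp
          · have e' : inv (lift a.act (snd G X)) ≫ snd G X = snd X X := by
              rw [IsIso.inv_comp_eq, lift_snd]
            simp [e']
        rw [← Category.assoc, e, Category.assoc]
        have e2 : inv (lift a.act (snd G X)) ≫ a.act = fst X X := by
          rw [IsIso.inv_comp_eq, lift_fst]
        rw [e2, lift_fst]
      · simp }

theorem trivIso_hom_snd (h : NonAbH1.IsPseudoTorsorSch a) {T : Over S} (t : T ⟶ X) :
    (trivIso a h t).hom ≫ snd X T = snd G T := lift_snd _ _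

theorem trivIso_inv_snd (h : NonAbH1.IsPseudoTorsorSch a) {T : Over S} (t : T ⟶ X) :
    (trivIso a h t).inv ≫ snd G T = snd X T := lift_snd _ _

/-- After a base change with a section, the structure maps of a torsor and of the group agree. -/
theorem property_snd_of_section (P : MorphismProperty Scheme.{u}) [P.RespectsIso] [P.IsStableUnderBaseChange]
    (h : NonAbH1.IsPseudoTorsorSch a) (hG : P G.hom) {T : Scheme.{u}} (f : T ⟶ S)
    (hf : NonAbH1.HasSectionOver X f) : P (pullback.snd X.hom f) := by
  obtain ⟨s, hs⟩ := hf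
  let e := (Over.forget S).mapIso (trivIso a h (Over.homMk s hs : Over.mk f ⟶ X))
  have he : e.inv ≫ pullback.snd G.hom f = pullback.snd X.hom f :=
    congrArg CommaMorphism.left (trivIso_inv_snd a h (Over.homMk s hs : Over.mk f ⟶ X))
  rw [← he]
  exact (P.cancel_left_of_respectsIso e.inv _).mpr (MorphismProperty.pullback_snd _ _ hG)

set_option backward.isDefEq.respectTransparency.types false in
instance flat_descends_fpqc : DescendsAlong @Flat Groth.Agent.H18Descent.fpqc.{u} :=
  HasRingHomProperty.descendsAlong_flat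
    (RingHom.CodescendsAlong.mk _ RingHom.Flat.respectsIso fun R S T _ _ _ _ _ h h' => by
      rw [RingHom.flat_algebraMap_iff] at h' ⊢
      rw [RingHom.faithfullyFlat_algebraMap_iff] at h
      exact Module.Flat.of_flat_tensorProduct R T S)

/-- An fpqc covering family is refined over each affine open by one fpqc morphism from an affine scheme. -/
theorem exists_refinement {R : Presieve S} (hR : R ∈ Scheme.fpqcPrecoverage S) {U : S.Opens} (hU : IsAffineOpen U) :
    ∃ (T : Scheme.{u}) (h : T ⟶ U.toScheme), Groth.Agent.H18Descent.fpqc h ∧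
      ∀ (Y : Scheme.{u}) (π : Y ⟶ S), (∀ ⦃S' : Scheme.{u}⦄ (f : S' ⟶ S), R f → ∃ s : S' ⟶ Y, s ≫ π = f) →
        ∃ s : T ⟶ Y, s ≫ π = h ≫ U.ι := by
  obtain ⟨𝒰, hq, rfl⟩ := Scheme.mem_propQCPrecoverage_iff_exists_quasiCompactCover.mp hR
  haveI := hq
  haveI : ∀ i, Flat (𝒰.f i) := fun i => 𝒰.map_prop i
  obtain ⟨n, f, V, hV, hUV⟩ := QuasiCompactCover.exists_isAffineOpen_of_isCompact 𝒰.toPreZeroHypercover hU.isCompact
  let Vs : ULift.{u} (Fin n) → Scheme.{u} := fun i => (V i.down).toScheme
  haveI : ∀ i, IsAffine (Vs i) := fun i => hV i.down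
  let k : ∀ i, Vs i ⟶ U.toScheme := fun i =>
    IsOpenImmersion.lift U.ι ((V i.down).ι ≫ 𝒰.f (f i.down)) (by
      rintro _ ⟨x, rfl⟩
      rw [Scheme.Opens.range_ι]
      exact hUV.subset (Set.mem_iUnion.mpr ⟨i.down, x.1, x.2, rfl⟩))
  have hk : ∀ i, k i ≫ U.ι = (V i.down).ι ≫ 𝒰.f (f i.down) := fun i => IsOpenImmersion.lift_fac _ _ _
  haveI : ∀ i, Flat (k i) := fun i => by
    haveI : Flat (k i ≫ U.ι) := by rw [hk]; infer_instance
    exact MorphismProperty.of_postcomp (W := @Flat) (W' := @IsOpenImmersion) (k i) U.ι inferInstance inferInstance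
  haveI : IsAffine U.toScheme := hU
  refine ⟨∐ Vs, Sigma.desc k, ⟨⟨⟨fun u => ?surj⟩, IsZariskiLocalAtSource.sigmaDesc inferInstance⟩, inferInstance⟩,
    fun Y π hs => ?sect⟩
  case surj =>
    obtain ⟨i, x, hx, hxu⟩ := Set.mem_iUnion.mp (hUV.symm.subset u.2)
    refine ⟨Sigma.ι Vs ⟨i⟩ ⟨x, hx⟩, U.ι.isOpenEmbedding.injective ?_⟩
    rw [← Scheme.Hom.comp_apply, ← Scheme.Hom.comp_apply, Sigma.ι_desc_assoc, hk]
    exact hxu
  case sect =>
    choose s hs' using fun i : ULift.{u} (Fin n) => hs (𝒰.f (f i.down)) (Presieve.ofArrows.mk _)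
    refine ⟨Sigma.desc fun i => (V i.down).ι ≫ s i, Sigma.hom_ext _ _ fun i => ?_⟩
    simp [hs', hk]

/-- A property of morphisms which is fpqc local on the target passes from the group to its torsors. -/
theorem property_of_isTorsorFor (P : MorphismProperty Scheme.{u}) [P.RespectsIso] [P.IsStableUnderBaseChange]
    [IsZariskiLocalAtTarget P] [P.DescendsAlong Groth.Agent.H18Descent.fpqc]
    (h : NonAbH1.IsTorsorFor Scheme.fpqcPrecoverage a) (hG : P G.hom) : P X.hom := by
  obtain ⟨hps, R, hR, hsec⟩ := h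
  refine (IsZariskiLocalAtTarget.iff_of_iSup_eq_top (P := P) (fun U : S.affineOpens => U.1)
    (iSup_affineOpens_eq_top S)).mpr fun U => ?_
  obtain ⟨T, k, hk, hT⟩ := exists_refinement hR U.2
  have h1 : P (pullback.snd X.hom (k ≫ U.1.ι)) :=
    property_snd_of_section a P hps hG _ (hT X.left X.hom hsec)
  have hsq : IsPullback (pullback.fst k (X.hom ∣_ U.1)) (pullback.snd k (X.hom ∣_ U.1) ≫ (X.hom ⁻¹ᵁ U.1).ι)
      (k ≫ U.1.ι) X.hom :=
    (IsPullback.of_hasPullback k (X.hom ∣_ U.1)).paste_vert (isPullback_morphismRestrict X.hom U.1)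
  refine MorphismProperty.of_pullback_fst_of_descendsAlong (P := P) (Q := Groth.Agent.H18Descent.fpqc) hk ?_
  rw [← hsq.flip.isoPullback_hom_snd, P.cancel_left_of_respectsIso]
  exact h1

end H18Torsor
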