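import Groth.Agent.H18Torsor.Basic
import Mathlib.AlgebraicGeometry.Sites.Fpqc

/-! Morphisms of schemes glue along fpqc coverings of a base; pointwise criteria for torsors. -/

set_option autoImplicit false
set_option linter.style.haveILetI false
universe u

open CategoryTheory MonoidalCategory CartesianMonoidalCategory AlgebraicGeometry Limits MonObj

namespace H18Torsor

variable {S : Scheme.{u}} (R : Presieve S)

/-- The test object `W` maps into a member of the family `R`. -/
def IsSmall {W : Scheme.{u}} (w : W ⟶ S) : Prop :=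
  ∃ (S' : Scheme.{u}) (h : W ⟶ S') (f : S' ⟶ S), R f ∧ h ≫ f = w

theorem IsSmall.comp {W W' : Scheme.{u}} {w : W ⟶ S} (h : IsSmall R w) (g : W' ⟶ W) : IsSmall R (g ≫ w) := by
  obtain ⟨S', k, f, hf, rfl⟩ := h
  exact ⟨S', g ≫ k, f, hf, Category.assoc _ _ _⟩

/-- A natural family of morphisms defined on the small test objects over `Y` comes from a unique morphism. -/
theorem existsUnique_glue (hR : R ∈ Scheme.fpqcPrecoverage S) {Y Z : Scheme.{u}} (π : Y ⟶ S)
    (F : ∀ {W : Scheme.{u}} (w : W ⟶ Y), IsSmall R (w ≫ π) → (W ⟶ Z))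
    (hF : ∀ {W W' : Scheme.{u}} (g : W' ⟶ W) (w : W ⟶ Y) (h : IsSmall R (w ≫ π))
      (h' : IsSmall R ((g ≫ w) ≫ π)), F (g ≫ w) h' = g ≫ F w h) :
    ∃! m : Y ⟶ Z, ∀ {W : Scheme.{u}} (w : W ⟶ Y) (h : IsSmall R (w ≫ π)), w ≫ m = F w h := by
  have hmem : (Sieve.generate R).pullback π ∈ Scheme.fpqcTopology Y :=
    GrothendieckTopology.pullback_stable _ _ (Precoverage.generate_mem_toGrothendieck hR)
  have hsh := (GrothendieckTopology.Subcanonical.isSheaf_of_isRepresentable
    (J := Scheme.fpqcTopology) (yoneda.obj Z)) _ hmem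
  have hsm : ∀ {W : Scheme.{u}} (w : W ⟶ Y), ((Sieve.generate R).pullback π).arrows w ↔ IsSmall R (w ≫ π) :=
    fun w => Iff.rfl
  let x : Presieve.FamilyOfElements (yoneda.obj Z) ((Sieve.generate R).pullback π).arrows :=
    fun W w hw => F w ((hsm w).mp hw)
  have hx : x.Compatible := by
    intro W₁ W₂ V g₁ g₂ w₁ w₂ h₁ h₂ e
    show g₁ ≫ F w₁ _ = g₂ ≫ F w₂ _
    have h3 : IsSmall R ((g₁ ≫ w₁) ≫ π) := by
      rw [Category.assoc]
      exact ((hsm w₁).mp h₁).comp R g₁
    rw [← hF g₁ w₁ _ h3, ← hF g₂ w₂ _ (e ▸ h3)]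
    congr 1
  obtain ⟨m, hm, huniq⟩ := hsh x hx
  exact ⟨m, fun w h => hm w ((hsm w).mpr h), fun m' hm' => huniq m' fun W w hw => hm' w _⟩

/-- A morphism over `S` bijective on small test objects is an isomorphism. -/
theorem isIso_of_bijective (hR : R ∈ Scheme.fpqcPrecoverage S) {A B : Over S} (φ : A ⟶ B)
    (h : ∀ W : Over S, IsSmall R W.hom → Function.Bijective (fun x : W ⟶ A => x ≫ φ)) : IsIso φ := by
  have hb : ∀ {W : Scheme.{u}} (w : W ⟶ B.left), IsSmall R (w ≫ B.hom) →
      ∃! x : W ⟶ A.left, x ≫ φ.left = w := by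
    intro W w hw
    obtain ⟨x, hx⟩ := (h (Over.mk (w ≫ B.hom)) hw).2 (Over.homMk w rfl)
    refine ⟨x.left, congrArg CommaMorphism.left hx, fun y hy => ?_⟩
    have hy' : y ≫ A.hom = w ≫ B.hom := by rw [← Over.w φ, reassoc_of% hy]
    refine congrArg CommaMorphism.left ((h (Over.mk (w ≫ B.hom)) hw).1 (a₁ := Over.homMk y hy') (a₂ := x) ?_)
    exact (Over.OverMorphism.ext hy).trans hx.symm
  choose F hF hFu using fun W (w : W ⟶ B.left) hw => hb w hw
  obtain ⟨ψ, hψ, -⟩ := existsUnique_glue R hR (Z := A.left) B.hom (fun w hw => F _ w hw) fun g w hw hw' =>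
    (hFu _ _ hw' _ (by show (g ≫ F _ w hw) ≫ φ.left = g ≫ w; rw [Category.assoc, hF])).symm
  have e2 : ψ ≫ φ.left = 𝟙 B.left := by
    obtain ⟨m, hm, huniq⟩ := existsUnique_glue R hR (Z := B.left) B.hom (fun w _ => w) fun g w _ _ => rfl
    exact (huniq _ fun w hw => by rw [← Category.assoc, hψ w hw, hF]).trans
      (huniq _ fun w _ => Category.comp_id w).symm
  have e1 : φ.left ≫ ψ = 𝟙 A.left := by
    obtain ⟨m, hm, huniq⟩ := existsUnique_glue R hR (Z := A.left) A.hom (fun w _ => w) fun g w _ _ => rfl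
    refine (huniq _ fun w hw => ?_).trans (huniq _ fun w _ => Category.comp_id w).symm
    have hw' : IsSmall R ((w ≫ φ.left) ≫ B.hom) := by rw [Category.assoc, Over.w φ]; exact hw
    rw [← Category.assoc, hψ _ hw']
    exact (hFu _ _ hw' w rfl).symm
  haveI : IsIso ((Over.forget S).map φ) := ⟨ψ, e1, e2⟩
  exact isIso_of_reflects_iso φ (Over.forget S)

variable {G X : Over S} [GrpObj G] (a : AlgGrp.Action G X)

/-- The action on points. -/
noncomputable def smul {W : Over S} (g : W ⟶ G) (x : W ⟶ X) : W ⟶ X := lift g x ≫ a.act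

theorem mul_smul_pt {W : Over S} (g h : W ⟶ G) (x : W ⟶ X) : smul a (g * h) x = smul a g (smul a h x) := by
  simp only [smul, Hom.mul_def]
  have e1 : lift (lift g h ≫ μ[G]) x = lift (lift g h) x ≫ (μ[G] ▷ X) := by
    apply CartesianMonoidalCategory.hom_ext <;> simp
  have e2 : lift g (lift h x ≫ a.act) = (lift (lift g h) x ≫ (α_ G G X).hom) ≫ (G ◁ a.act) := by
    apply CartesianMonoidalCategory.hom_ext
    · simp
    · rw [Category.assoc, whiskerLeft_snd, ← Category.assoc, lift_snd]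
      refine congrArg (· ≫ a.act) ?_
      apply CartesianMonoidalCategory.hom_ext <;> simp
  rw [e1, e2, Category.assoc, a.mul_act]
  simp only [Category.assoc]

theorem one_smul_pt {W : Over S} (x : W ⟶ X) : smul a 1 x = x := by
  simp only [smul, Hom.one_def]
  have e : lift (toUnit W ≫ η[G]) x = lift (toUnit W) x ≫ (η[G] ▷ X) := by
    apply CartesianMonoidalCategory.hom_ext <;> simp
  rw [e, Category.assoc, a.one_act]
  simp

theorem comp_smul {W W' : Over S} (u : W' ⟶ W) (g : W ⟶ G) (x : W ⟶ X) :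
    u ≫ smul a g x = smul a (u ≫ g) (u ≫ x) := by
  simp [smul, comp_lift_assoc]

theorem existsUnique_smul (h : NonAbH1.IsPseudoTorsorSch a) {W : Over S} (x y : W ⟶ X) :
    ∃! g : W ⟶ G, smul a g x = y := by
  haveI : IsIso (lift a.act (snd G X)) := h
  refine ⟨lift y x ≫ inv (lift a.act (snd G X)) ≫ fst G X, ?_, fun g hg => ?_⟩
  · show lift _ x ≫ a.act = y
    have hsnd : inv (lift a.act (snd G X)) ≫ snd G X = snd X X := by rw [IsIso.inv_comp_eq, lift_snd]
    have hact : inv (lift a.act (snd G X)) ≫ a.act = fst X X := by rw [IsIso.inv_comp_eq, lift_fst]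
    have e : lift (lift y x ≫ inv (lift a.act (snd G X)) ≫ fst G X) x = lift y x ≫ inv (lift a.act (snd G X)) := by
      apply CartesianMonoidalCategory.hom_ext
      · simp
      · simp [hsnd]
    rw [e, Category.assoc, hact, lift_fst]
  · have e : lift y x = lift g x ≫ lift a.act (snd G X) := by
      rw [comp_lift, lift_snd]
      exact congrArg (lift · x) hg.symm
    rw [e, Category.assoc, IsIso.hom_inv_id_assoc, lift_fst]

end H18Torsor
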