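import Groth.Agent.H18Torsor.Glue
import Groth.Agent.H7Lim.Birational
import Groth.Prelude.Def_Pi1

/-! Generic sections of integral morphisms over normal schemes extend. -/

set_option autoImplicit false
set_option linter.style.haveILetI false
universe u

open CategoryTheory AlgebraicGeometry Limits TopologicalSpace

namespace H18Torsor

variable {X Y : Scheme.{u}} [IsIntegral X]

/-- A section at the generic point of an integral morphism to a normal integral scheme extends uniquely compatibly. -/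
theorem exists_section_extending (hX : Pi1.IsNormalScheme X) (f : Y ⟶ X) [IsIntegralHom f]
    (s₀ : Spec (X.presheaf.stalk (genericPoint X)) ⟶ Y) (hs₀ : s₀ ≫ f = X.fromSpecStalk (genericPoint X)) :
    ∃ s : X ⟶ Y, s ≫ f = 𝟙 X ∧ X.fromSpecStalk (genericPoint X) ≫ s = s₀ := by
  let I := {U : X.Opens // IsAffineOpen U ∧ genericPoint X ∈ U}
  have hN : ∀ x : X, IsIntegrallyClosed (X.presheaf.stalk x) := fun x => (hX x).2
  let j : ∀ U : I, Spec (X.presheaf.stalk (genericPoint X)) ⟶ U.1.toScheme := fun U =>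
    Spec.map (X.presheaf.germ U.1 _ U.2.2) ≫ U.2.1.isoSpec.inv
  have hj : ∀ U : I, j U ≫ U.1.ι = X.fromSpecStalk (genericPoint X) := fun U => by
    rw [Category.assoc, IsAffineOpen.isoSpec_inv_ι]
    exact U.2.1.fromSpecStalk_eq_fromSpecStalk U.2.2
  have hσ : ∀ U : I, ∃ σ : U.1.toScheme ⟶ Y, σ ≫ f = U.1.ι ∧ j U ≫ σ = s₀ := by
    rintro ⟨U, hU, hη⟩
    haveI : Nonempty U := ⟨⟨_, hη⟩⟩
    haveI := Groth.Agent.H7Lim.isIntegrallyClosed_section hN hU
    have hV := hU.preimage f
    have hr : Set.range s₀ ⊆ Set.range hV.fromSpec := by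
      rw [hV.range_fromSpec]
      rintro _ ⟨z, rfl⟩
      show f (s₀ z) ∈ U
      rw [← Scheme.Hom.comp_apply, hs₀]
      have hz' : X.fromSpecStalk (genericPoint X) z ∈ Set.range (hU.fromSpecStalk hη) := by
        rw [hU.fromSpecStalk_eq_fromSpecStalk hη]; exact ⟨z, rfl⟩
      obtain ⟨z', hz'⟩ := hz'
      rw [← hz']
      exact hU.range_fromSpec.subset ⟨_, rfl⟩
    obtain ⟨φ, hφ⟩ := Spec.map_surjective (IsOpenImmersion.lift hV.fromSpec s₀ hr)
    have hφs : Spec.map φ ≫ hV.fromSpec = s₀ := by rw [hφ, IsOpenImmersion.lift_fac]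
    have hc : f.app U ≫ φ = X.presheaf.germ U _ hη := by
      apply Spec.map_injective
      rw [← cancel_mono hU.fromSpec, Spec.map_comp, Category.assoc, ← Scheme.Hom.appLE_eq_app,
        hU.SpecMap_appLE_fromSpec f hV, ← Category.assoc, hφs, hs₀]
      exact (hU.fromSpecStalk_eq_fromSpecStalk hη).symm
    letI := (X.presheaf.germ U _ hη).hom.toAlgebra
    haveI : IsFractionRing Γ(X, U) (X.presheaf.stalk (genericPoint X)) :=
      Groth.Agent.H7Lim.isFractionRing_stalk hU rfl hη
    have hin : ∀ b, ∃ a, (X.presheaf.germ U _ hη).hom a = φ.hom b := by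
      intro b
      refine IsIntegrallyClosed.isIntegral_iff.mp ?_
      obtain ⟨P, hP, hev⟩ := IsIntegralHom.isIntegral_app f U hU b
      refine ⟨P, hP, ?_⟩
      show Polynomial.eval₂ (X.presheaf.germ U _ hη).hom (φ.hom b) P = 0
      rw [← hc, CommRingCat.hom_comp, ← Polynomial.hom_eval₂, hev, map_zero]
    choose ψ₀ hψ₀ using hin
    have hinj := germ_injective_of_isIntegral X (genericPoint X) hη
    let ψ : Γ(Y, f ⁻¹ᵁ U) ⟶ Γ(X, U) := CommRingCat.ofHom
      { toFun := ψ₀
        map_one' := hinj (by rw [hψ₀, map_one, map_one])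
        map_zero' := hinj (by rw [hψ₀, map_zero, map_zero])
        map_mul' := fun a b => hinj (by rw [hψ₀, map_mul, map_mul, hψ₀, hψ₀])
        map_add' := fun a b => hinj (by rw [hψ₀, map_add, map_add, hψ₀, hψ₀]) }
    have hψ : ψ ≫ X.presheaf.germ U _ hη = φ := CommRingCat.hom_ext (RingHom.ext hψ₀)
    refine ⟨hU.isoSpec.hom ≫ Spec.map ψ ≫ hV.fromSpec, ?_, ?_⟩
    · have h1 : f.app U ≫ ψ = 𝟙 _ := by
        refine CommRingCat.hom_ext (RingHom.ext fun a => hinj ?_)
        exact (hψ₀ _).trans (congrArg (fun m => m.hom a) hc)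
      rw [Category.assoc, Category.assoc, ← hU.SpecMap_appLE_fromSpec f hV le_rfl, Scheme.Hom.appLE_eq_app,
        ← Spec.map_comp_assoc, h1, Spec.map_id, Category.id_comp, IsAffineOpen.isoSpec_hom_fromSpec]
    · simp only [j, Category.assoc, Iso.inv_hom_id_assoc]
      rw [← Spec.map_comp_assoc, hψ, hφs]
  choose σ hσf hσj using hσ
  have hcov : IsOpenCover (fun U : I => U.1) := IsOpenCover.mk (eq_top_iff.mpr fun x _ => by
    obtain ⟨U, hU, hxU, -⟩ := exists_isAffineOpen_mem_and_subset (X := X) (x := x) (U := ⊤) trivial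
    exact Opens.mem_iSup.mpr ⟨⟨U, hU, ((genericPoint_spec X).mem_open_set_iff U.2).mpr ⟨x, trivial, hxU⟩⟩, hxU⟩)
  have hcompat : ∀ U U' : I, pullback.fst U.1.ι U'.1.ι ≫ σ U = pullback.snd U.1.ι U'.1.ι ≫ σ U' := by
    intro U U'
    let a := pullback.fst U.1.ι U'.1.ι ≫ U.1.ι
    let d := pullback.lift (j U) (j U') ((hj U).trans (hj U').symm)
    have hda : d ≫ a = X.fromSpecStalk (genericPoint X) := by
      rw [← Category.assoc, pullback.lift_fst, hj]
    let z : ↥(pullback U.1.ι U'.1.ι) := d (IsLocalRing.closedPoint _)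
    haveI : Nonempty ↥(pullback U.1.ι U'.1.ι) := ⟨z⟩
    haveI : IsIntegral (pullback U.1.ι U'.1.ι) := isIntegral_of_isOpenImmersion a
    have hz : z = genericPoint ↥(pullback U.1.ι U'.1.ι) := by
      apply a.isOpenEmbedding.injective
      rw [genericPoint_eq_of_isOpenImmersion a]
      show (d ≫ a) (IsLocalRing.closedPoint _) = _
      rw [hda, Scheme.fromSpecStalk_closedPoint]
    haveI : IsDominant d := ⟨by
      refine Dense.mono (Set.singleton_subset_iff.mpr ⟨IsLocalRing.closedPoint _, rfl⟩) ?_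
      rw [dense_iff_closure_eq]
      show closure {z} = Set.univ
      rw [hz, genericPoint_closure]⟩
    haveI : IsSeparated f := inferInstance
    refine ext_of_isDominant_of_isSeparated f ?_ d ?_
    · rw [Category.assoc, Category.assoc, hσf, hσf, pullback.condition]
    · rw [← Category.assoc, ← Category.assoc, pullback.lift_fst, pullback.lift_snd, hσj, hσj]
  let 𝒰 := X.openCoverOfIsOpenCover (fun U : I => U.1) hcov
  refine ⟨𝒰.glueMorphisms σ hcompat, Scheme.Cover.hom_ext 𝒰 _ _ fun U => ?_, ?_⟩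
  · rw [Category.comp_id, ← Category.assoc, 𝒰.ι_glueMorphisms σ hcompat U]
    exact hσf U
  · obtain ⟨U, hU, hxU, -⟩ := exists_isAffineOpen_mem_and_subset (X := X) (x := genericPoint X) (U := ⊤) trivial
    conv_lhs => rw [← hj ⟨U, hU, hxU⟩]
    rw [Category.assoc]
    exact (congrArg (j ⟨U, hU, hxU⟩ ≫ ·) (𝒰.ι_glueMorphisms σ hcompat ⟨U, hU, hxU⟩)).trans (hσj _)


/-- A section at the generic point of an integral morphism to a normal integral scheme extends. -/
theorem exists_section_of_generic (hX : Pi1.IsNormalScheme X) (f : Y ⟶ X) [IsIntegralHom f]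
    (s₀ : Spec (X.presheaf.stalk (genericPoint X)) ⟶ Y) (hs₀ : s₀ ≫ f = X.fromSpecStalk (genericPoint X)) :
    ∃ s : X ⟶ Y, s ≫ f = 𝟙 X :=
  (exists_section_extending hX f s₀ hs₀).imp fun _ h => h.1

end H18Torsor
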