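import Groth.Agent.H18Torsor.Glue
import Mathlib.AlgebraicGeometry.Morphisms.FlatRank
import Mathlib.FieldTheory.PurelyInseparable.Basic
import Mathlib.FieldTheory.Perfect
import Mathlib.RingTheory.Artinian.Module
import Mathlib.Topology.Separation.Connected
import Mathlib.RingTheory.Spectrum.Prime.Jacobson

/-! Torsors under finite connected group schemes over fields. -/

set_option autoImplicit false
set_option linter.style.haveILetI false
universe u

open CategoryTheory MonoidalCategory CartesianMonoidalCategory AlgebraicGeometry Limits MonObj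

namespace H18Torsor

variable {K : Type u} [Field K]

theorem exists_model (Y : Over (Spec (CommRingCat.of K))) [IsFinite Y.hom] :
    ∃ (A : Type u) (_ : CommRing A) (_ : Algebra K A) (_ : Module.Finite K A)
      (e : Spec (CommRingCat.of A) ⟶ Y.left), IsIso e ∧
      e ≫ Y.hom = Spec.map (CommRingCat.ofHom (algebraMap K A)) := by
  haveI : IsAffine Y.left := isAffine_of_isAffineHom Y.hom
  let φ : CommRingCat.of K ⟶ Γ(Y.left, ⊤) := (Scheme.ΓSpecIso (CommRingCat.of K)).inv ≫ Y.hom.appTop
  letI := φ.hom.toAlgebra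
  refine ⟨Γ(Y.left, ⊤), inferInstance, φ.hom.toAlgebra, ?_, Y.left.isoSpec.inv, inferInstance, ?_⟩
  · have hf : φ.hom.Finite := by
      rw [CommRingCat.hom_comp]
      exact RingHom.Finite.comp (Y.hom.finite_appTop)
        (RingHom.Finite.of_surjective _
          (ConcreteCategory.bijective_of_isIso (Scheme.ΓSpecIso (CommRingCat.of K)).inv).surjective)
    exact hf
  · show _ = Spec.map φ
    rw [← Scheme.isoSpec_inv_naturality]
    simp only [φ, Spec.map_comp]
    congr 1
    exact Scheme.isoSpec_Spec_inv _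

variable {G X : Over (Spec (CommRingCat.of K))} [GrpObj G] (a : AlgGrp.Action G X)

theorem subsingleton_group_points [IsFinite G.hom] [ConnectedSpace G.left] (Ω : Type u) [Field Ω] [Algebra K Ω] :
    Subsingleton (Over.mk (Spec.map (CommRingCat.ofHom (algebraMap K Ω))) ⟶ G) := by
  obtain ⟨A, _, _, _, e, he, hec⟩ := exists_model G
  haveI := he
  haveI : IsArtinianRing A := IsArtinianRing.of_finite K A
  haveI : ConnectedSpace (PrimeSpectrum A) :=
    (asIso e).hom.homeomorph.connectedSpace_iff.mpr inferInstance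
  haveI : PreconnectedSpace (PrimeSpectrum A) := ConnectedSpace.toPreconnectedSpace
  haveI : Subsingleton (PrimeSpectrum A) := PreconnectedSpace.trivial_of_discrete
  obtain ⟨pη, hη⟩ := Spec.map_surjective ((η[G] : 𝟙_ (Over (Spec (CommRingCat.of K))) ⟶ G).left ≫ inv e)
  have hη1 : CommRingCat.ofHom (algebraMap K A) ≫ pη = 𝟙 _ := by
    apply Spec.map_injective
    rw [Spec.map_comp, hη, ← hec, Category.assoc, IsIso.inv_hom_id_assoc, Spec.map_id]
    exact Over.w (η[G] : 𝟙_ (Over (Spec (CommRingCat.of K))) ⟶ G)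
  refine ⟨fun g₁ g₂ => Over.OverMorphism.ext ?_⟩
  obtain ⟨p₁, hp₁⟩ := Spec.map_surjective (g₁.left ≫ inv e)
  obtain ⟨p₂, hp₂⟩ := Spec.map_surjective (g₂.left ≫ inv e)
  rw [← cancel_mono (inv e), ← hp₁, ← hp₂]
  congr 1
  have hp : ∀ (g : Over.mk (Spec.map (CommRingCat.ofHom (algebraMap K Ω))) ⟶ G) (p : CommRingCat.of A ⟶ CommRingCat.of Ω),
      Spec.map p = g.left ≫ inv e → ∀ x, p.hom x = algebraMap K Ω (pη.hom x) := by
    intro g p hpg x
    have h1 : CommRingCat.ofHom (algebraMap K A) ≫ p = CommRingCat.ofHom (algebraMap K Ω) := by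
      apply Spec.map_injective
      rw [Spec.map_comp, hpg, ← hec, Category.assoc, IsIso.inv_hom_id_assoc]
      exact Over.w g
    have hker : RingHom.ker p.hom = RingHom.ker pη.hom := congrArg PrimeSpectrum.asIdeal
      (Subsingleton.elim (⟨RingHom.ker p.hom, RingHom.ker_isPrime _⟩ : PrimeSpectrum A)
        ⟨RingHom.ker pη.hom, RingHom.ker_isPrime _⟩)
    have hx : x - algebraMap K A (pη.hom x) ∈ RingHom.ker p.hom := by
      rw [hker, RingHom.mem_ker, map_sub]
      exact sub_eq_zero.mpr (congrArg (fun m => m.hom (pη.hom x)) hη1).symm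
    rw [RingHom.mem_ker, map_sub, sub_eq_zero] at hx
    rw [hx]
    exact congrArg (fun m => m.hom (pη.hom x)) h1
  exact CommRingCat.hom_ext (RingHom.ext fun x => (hp g₁ p₁ hp₁ x).trans (hp g₂ p₂ hp₂ x).symm)

/-- The model of a torsor: a finite algebra with at most one point in each field, of rank that of the group. -/
theorem exists_torsor_model [IsFinite G.hom] [ConnectedSpace G.left]
    (h : NonAbH1.IsTorsorFor Scheme.fpqcPrecoverage a) :
    ∃ (A : Type u) (_ : CommRing A) (_ : Algebra K A) (_ : Module.Finite K A) (_ : Nontrivial A)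
      (e : Spec (CommRingCat.of A) ⟶ X.left), IsIso e ∧
      e ≫ X.hom = Spec.map (CommRingCat.ofHom (algebraMap K A)) ∧
      (∀ (Ω : Type u) [Field Ω] [Algebra K Ω], Subsingleton (A →ₐ[K] Ω)) ∧
      Module.finrank K A = Scheme.Hom.finrank G.hom (IsLocalRing.closedPoint K) := by
  haveI : Flat G.hom := inferInstance
  haveI : IsFinite X.hom := property_of_isTorsorFor a @IsFinite h inferInstance
  haveI : Surjective G.hom :=
    ⟨fun s => ⟨(MonObj.one (X := G)).left s, (congr($(Over.w (MonObj.one (X := G))) s))⟩⟩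
  haveI : Surjective X.hom := property_of_isTorsorFor a @Surjective h inferInstance
  haveI : Flat X.hom := property_of_isTorsorFor a @Flat h inferInstance
  obtain ⟨A, _, _, hA, e, he, hec⟩ := exists_model X
  haveI := he
  haveI : Nontrivial A := by
    by_contra hA'
    rw [not_nontrivial_iff_subsingleton] at hA'
    haveI : IsEmpty (Spec (CommRingCat.of A)) := inferInstanceAs (IsEmpty (PrimeSpectrum A))
    exact IsEmpty.false ((inv e) (X.hom.surjective (IsLocalRing.closedPoint K)).choose)
  refine ⟨A, inferInstance, inferInstance, hA, inferInstance, e, he, hec, fun Ω _ _ => ⟨fun f₁ f₂ => ?_⟩, ?_⟩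
  · have hpt : ∀ f : A →ₐ[K] Ω, (Spec.map (CommRingCat.ofHom f.toRingHom) ≫ e) ≫ X.hom =
        Spec.map (CommRingCat.ofHom (algebraMap K Ω)) := fun f => by
      rw [Category.assoc, hec, ← Spec.map_comp]
      exact congrArg Spec.map (CommRingCat.hom_ext f.comp_algebraMap)
    let x : ∀ _ : A →ₐ[K] Ω, Over.mk (Spec.map (CommRingCat.ofHom (algebraMap K Ω))) ⟶ X := fun f =>
      Over.homMk (Spec.map (CommRingCat.ofHom f.toRingHom) ≫ e) (hpt f)
    obtain ⟨g, hg, -⟩ := existsUnique_smul a h.1 (x f₁) (x f₂)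
    haveI := subsingleton_group_points (G := G) Ω
    rw [Subsingleton.elim g 1, one_smul_pt] at hg
    have h2 := (cancel_mono e).mp (congrArg CommaMorphism.left hg)
    exact AlgHom.coe_ringHom_injective (congrArg CommRingCat.Hom.hom (Spec.map_injective h2))
  · obtain ⟨R, hR, hsec⟩ := h.2
    obtain ⟨T, k, hk, hT⟩ := exists_refinement hR (isAffineOpen_top (Spec (CommRingCat.of K)))
    haveI : Surjective k := hk.1.1
    obtain ⟨t, ht⟩ := k.surjective ⟨IsLocalRing.closedPoint K, trivial⟩
    let f := k ≫ (⊤ : (Spec (CommRingCat.of K)).Opens).ι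
    obtain ⟨s, hs⟩ := hT X.left X.hom hsec
    haveI hfl : Flat (pullback.snd G.hom f) := MorphismProperty.pullback_snd _ _ inferInstance
    haveI hfi : IsFinite (pullback.snd G.hom f) := MorphismProperty.pullback_snd _ _ inferInstance
    let ee := (Over.forget _).mapIso (trivIso a h.1 (Over.homMk s hs : Over.mk f ⟶ X))
    have hee : ee.inv ≫ pullback.snd G.hom f = pullback.snd X.hom f :=
      congrArg CommaMorphism.left (trivIso_inv_snd a h.1 (Over.homMk s hs : Over.mk f ⟶ X))
    have h1 : Scheme.Hom.finrank (pullback.snd X.hom f) t = Scheme.Hom.finrank (pullback.snd G.hom f) t := by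
      rw [← hee]
      exact congrFun (@Scheme.Hom.finrank_comp_left_of_isIso _ _ _ ee.inv (pullback.snd G.hom f) inferInstance hfl hfi) t
    rw [Scheme.Hom.finrank_pullback_snd, Scheme.Hom.finrank_pullback_snd,
      Subsingleton.elim (α := PrimeSpectrum K) (f t) (IsLocalRing.closedPoint K)] at h1
    rw [← h1]
    have h2 : Scheme.Hom.finrank X.hom = Scheme.Hom.finrank (Spec.map (CommRingCat.ofHom (algebraMap K A))) := by
      rw [← hec, Scheme.Hom.finrank_comp_left_of_isIso]
    rw [h2, Scheme.Hom.finrank_SpecMap_algebraMap, Module.rankAtStalk_eq_finrank_of_free]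
    rfl

/-- The residue field of the unique point of a torsor under a connected finite group is purely inseparable. -/
theorem exists_point [IsFinite G.hom] [ConnectedSpace G.left]
    (h : NonAbH1.IsTorsorFor Scheme.fpqcPrecoverage a) :
    ∃ (L : Type u) (_ : Field L) (_ : Algebra K L) (_ : Module.Finite K L) (x : Spec (CommRingCat.of L) ⟶ X.left),
      x ≫ X.hom = Spec.map (CommRingCat.ofHom (algebraMap K L)) ∧ IsPurelyInseparable K L ∧
      Module.finrank K L ≤ Scheme.Hom.finrank G.hom (IsLocalRing.closedPoint K) ∧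
      (∀ (M : Type u) [Field M] [Algebra K M] (y : Spec (CommRingCat.of M) ⟶ X.left),
        y ≫ X.hom = Spec.map (CommRingCat.ofHom (algebraMap K M)) → Nonempty (L →ₐ[K] M)) := by
  obtain ⟨A, _, _, _, _, e, he, hec, hsub, hrank⟩ := exists_torsor_model a h
  haveI := he
  obtain ⟨m, hm⟩ := Ideal.exists_maximal A
  haveI := hm
  letI : Field (A ⧸ m) := Ideal.Quotient.field m
  refine ⟨A ⧸ m, inferInstance, inferInstance, inferInstance,
    Spec.map (CommRingCat.ofHom (Ideal.Quotient.mk m)) ≫ e, ?_, ?_, ?_, fun M _ _ y hy => ?_⟩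
  · rw [Category.assoc, hec, ← Spec.map_comp]
    rfl
  · refine (isPurelyInseparable_iff_subsingleton_emb K (A ⧸ m)).mpr ⟨fun f₁ f₂ => ?_⟩
    haveI := hsub (AlgebraicClosure (A ⧸ m))
    have e1 := Subsingleton.elim (f₁.comp (Ideal.Quotient.mkₐ K m)) (f₂.comp (Ideal.Quotient.mkₐ K m))
    exact AlgHom.ext fun z => by
      obtain ⟨z, rfl⟩ := Ideal.Quotient.mk_surjective z
      exact congrArg (fun f => f z) e1
  · rw [← hrank]
    exact LinearMap.finrank_le_finrank_of_surjective (f := (Ideal.Quotient.mkₐ K m).toLinearMap)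
      Ideal.Quotient.mk_surjective
  · obtain ⟨p, hp⟩ := Spec.map_surjective (y ≫ inv e)
    have hc : CommRingCat.ofHom (algebraMap K A) ≫ p = CommRingCat.ofHom (algebraMap K M) := by
      apply Spec.map_injective
      rw [Spec.map_comp, hp, ← hec, Category.assoc, IsIso.inv_hom_id_assoc, hy]
    let f : A →ₐ[K] M := { p.hom with commutes' := fun r => congrArg (fun q => q.hom r) hc }
    haveI : Algebra.IsAlgebraic K (A ⧸ m) := Algebra.IsAlgebraic.of_finite K (A ⧸ m)
    let Ω := AlgebraicClosure M
    haveI := hsub Ω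
    let j : (A ⧸ m) →ₐ[K] Ω := IsAlgClosed.lift
    have e1 : j.comp (Ideal.Quotient.mkₐ K m) = (IsScalarTower.toAlgHom K M Ω).comp f := Subsingleton.elim _ _
    refine ⟨Ideal.Quotient.liftₐ m f fun z hz => ?_⟩
    have h2 := congrArg (fun q => q z) e1
    simp only [AlgHom.comp_apply, Ideal.Quotient.mkₐ_eq_mk, Ideal.Quotient.eq_zero_iff_mem.mpr hz, map_zero] at h2
    exact (algebraMap M Ω).injective (h2.symm.trans (map_zero _).symm)

/-- A point with values in `M` receiving a map from the residue field. -/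
theorem exists_point_of_algHom {L M : Type u} [Field L] [Algebra K L] [CommRing M] [Algebra K M]
    {x : Spec (CommRingCat.of L) ⟶ X.left} (hx : x ≫ X.hom = Spec.map (CommRingCat.ofHom (algebraMap K L)))
    (f : L →ₐ[K] M) : NonAbH1.HasSectionOver X (Spec.map (CommRingCat.ofHom (algebraMap K M))) := by
  refine ⟨Spec.map (CommRingCat.ofHom f.toRingHom) ≫ x, ?_⟩
  rw [Category.assoc, hx, ← Spec.map_comp]
  exact congrArg Spec.map (CommRingCat.hom_ext f.comp_algebraMap)

end H18Torsor
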